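import Mathlib

/-!
# A coset bound for groups with Carmichael's generators of the alternating group
-/

set_option autoImplicit false

namespace Cfsg.Agent.Carmichael

open Pointwise

variable {G : Type*} [Group G]

/-- `e (k + d - 1) * ... * e k`. -/
def desc (e : ℕ → G) (k : ℕ) : ℕ → G
  | 0 => 1
  | d + 1 => e (k + d) * desc e k d

theorem desc_add (e : ℕ → G) (k a : ℕ) : ∀ b, desc e k (a + b) = desc e (k + a) b * desc e k a
  | 0 => by simp [desc]
  | b + 1 => by
    show e (k + (a + b)) * desc e k (a + b) = e (k + a + b) * desc e (k + a) b * desc e k a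
    rw [desc_add e k a b, add_assoc, mul_assoc]

theorem desc_bottom (e : ℕ → G) (k d : ℕ) : desc e k (d + 1) = desc e (k + 1) d * e k := by
  rw [show d + 1 = 1 + d by omega, desc_add]
  simp [desc]

/-- Carmichael's relations for the first `N` generators. -/
structure Rels (e : ℕ → G) (N : ℕ) : Prop where
  cube : 0 < N → e 0 ^ 3 = 1
  sq : ∀ i, 1 ≤ i → i < N → e i ^ 2 = 1
  braid : ∀ i, i + 1 < N → (e i * e (i + 1)) ^ 3 = 1
  comm : ∀ i j, i + 1 < j → j < N → (e i * e j) ^ 2 = 1

/-- A high generator moves down by one when passing through a descending product. -/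
theorem desc_shift {e : ℕ → G} {m i : ℕ} (R : Rels e (m + 1)) (hj : i + 2 ≤ m) (k : ℕ) (hk0 : 1 ≤ k) (hk : k ≤ i + 1) :
    desc e k (m + 1 - k) * e (i + 2) = e (i + 1) * desc e k (m + 1 - k) := by
  have p : ∀ a, 1 ≤ a → a ≤ m → (e a)⁻¹ = e a := fun a h1 h2 =>
    inv_eq_of_mul_eq_one_right (by rw [← pow_two]; exact R.sq a h1 (by omega))
  have hc : ∀ a b, 1 ≤ a → a + 1 < b → b ≤ m → e a * e b = e b * e a := by
    intro a b ha hab hb
    have h := R.comm a b hab (by omega)
    rw [pow_two, mul_eq_one_iff_eq_inv, mul_inv_rev, p a ha (by omega), p b (by omega) hb] at h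
    exact h
  have hbr : e (i + 2) * e (i + 1) * e (i + 2) = e (i + 1) * e (i + 2) * e (i + 1) := by
    have h := R.braid (i + 1) (by omega)
    rw [pow_three] at h
    calc e (i + 2) * e (i + 1) * e (i + 2) = (e (i + 1))⁻¹ * (e (i + 1) * e (i + 2) * ((e (i + 1) * e (i + 2)) * (e (i + 1) * e (i + 2)))) * ((e (i + 2))⁻¹ * (e (i + 1))⁻¹) := by group
      _ = _ := by rw [h, p (i + 1) (by omega) (by omega), p (i + 2) (by omega) hj]; group
  have hlow : ∀ d, k + d ≤ i + 1 → desc e k d * e (i + 2) = e (i + 2) * desc e k d := by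
    intro d
    induction d with
    | zero => intro _; simp [desc]
    | succ d ih =>
      intro hd
      simp only [desc]
      rw [mul_assoc, ih (by omega), ← mul_assoc, hc (k + d) (i + 2) (by omega) (by omega) hj, mul_assoc]
  have hhigh : ∀ d, i + 3 + d ≤ m + 1 → desc e (i + 3) d * e (i + 1) = e (i + 1) * desc e (i + 3) d := by
    intro d
    induction d with
    | zero => intro _; simp [desc]
    | succ d ih =>
      intro hd
      simp only [desc]
      rw [mul_assoc, ih (by omega), ← mul_assoc, ← hc (i + 1) (i + 3 + d) (by omega) (by omega) (by omega), mul_assoc]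
  have e1 : k + (i + 1 - k) = i + 1 := by omega
  have hsplit : desc e k (m + 1 - k) = desc e (i + 3) (m + 1 - (i + 3)) * e (i + 2) * e (i + 1) * desc e k (i + 1 - k) := by
    rw [show m + 1 - k = (i + 1 - k) + (1 + (1 + (m + 1 - (i + 3)))) by omega, desc_add, desc_add, desc_add, e1]
    simp [desc, mul_assoc]
  rw [hsplit, mul_assoc _ (desc e k _), hlow _ (by omega), ← mul_assoc,
    mul_assoc (desc e (i + 3) _) (e (i + 2)), mul_assoc (desc e (i + 3) _), hbr]
  simp only [← mul_assoc]
  rw [hhigh _ (by omega)]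

theorem exists_cosets {e : ℕ → G} {m : ℕ} (R : Rels e (m + 1)) :
    ∃ T : Finset G, T.card ≤ m + 3 ∧ (1 : G) ∈ T ∧ (T : Set G) ⊆ Subgroup.closure (e '' Set.Iio (m + 1)) ∧ ∀ w ∈ T, ∀ j ≤ m,
      ∃ h ∈ Subgroup.closure (e '' Set.Iio m), ∃ w' ∈ T, w * e j = h * w' := by
  classical
  set H := Subgroup.closure (e '' Set.Iio m)
  have hH : ∀ i, i < m → e i ∈ H := fun i hi => Subgroup.subset_closure ⟨i, hi, rfl⟩
  let P : ℕ → G := fun k => desc e k (m + 1 - k)
  let T : Finset G := insert (P 0 * e 0) ((Finset.range (m + 2)).image P)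
  have hP : ∀ k, k ≤ m + 1 → P k ∈ T := fun k hk =>
    Finset.mem_insert_of_mem (Finset.mem_image_of_mem _ (Finset.mem_range.2 (by omega)))
  have hQ : P 0 * e 0 ∈ T := Finset.mem_insert_self _ _
  have Pstep : ∀ k, k ≤ m → P k = P (k + 1) * e k := fun k hk => by
    show desc e k (m + 1 - k) = _
    rw [show m + 1 - k = m + 1 - (k + 1) + 1 by omega, desc_bottom]
  -- a generator can be moved to the left of generators far above it
  have inv : ∀ j i, j + 1 < i → i ≤ m → e i * e j * (e i)⁻¹ = (e j)⁻¹ := by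
    intro j i hji hi
    refine (inv_eq_of_mul_eq_one_right ?_).symm
    have h := R.comm j i hji (by omega)
    rw [inv_eq_of_mul_eq_one_right (a := e i) (by rw [← pow_two]; exact R.sq i (by omega) (by omega))]
    rw [pow_two] at h
    simpa [mul_assoc] using h
  have pass : ∀ j k, j + 1 < k → ∀ x ∈ Subgroup.zpowers (e j), ∃ h ∈ Subgroup.zpowers (e j), P k * x = h * P k := by
    intro j k hjk x hx
    suffices ∀ d, k + d ≤ m + 1 → desc e k d * x * (desc e k d)⁻¹ ∈ Subgroup.zpowers (e j) by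
      by_cases hk : k ≤ m + 1
      · exact ⟨_, this (m + 1 - k) (by omega), by simp [P]⟩
      · exact ⟨x, hx, by simp [P, desc, show m + 1 - k = 0 by omega]⟩
    intro d
    induction d with
    | zero => intro _; simpa [desc] using hx
    | succ d ih =>
      intro hd
      obtain ⟨z, hz⟩ := ih (by omega)
      rw [show desc e k (d + 1) * x * (desc e k (d + 1))⁻¹ = e (k + d) * (desc e k d * x * (desc e k d)⁻¹) * (e (k + d))⁻¹ by
        simp only [desc]; group]
      refine ⟨-z, ?_⟩
      simp only at hz ⊢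
      rw [← hz, ← conj_zpow, inv j (k + d) (by omega) (by omega), inv_zpow, zpow_neg]
  have zH : ∀ j, j < m → Subgroup.zpowers (e j) ≤ H := fun j hj => Subgroup.zpowers_le.2 (hH j hj)
  have comm' : ∀ j, 2 ≤ j → j ≤ m → e 0 * e j = e j * (e 0)⁻¹ ∧ (e 0)⁻¹ * e j = e j * e 0 := by
    intro j h2 hj
    have hi := inv 0 j (by omega) hj
    rw [mul_inv_eq_iff_eq_mul] at hi
    constructor
    · have := congrArg (fun z => e 0 * z * (e 0)⁻¹) hi
      simpa [mul_assoc] using this
    · exact hi.symm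
  have b0 : 1 ≤ m → e 1 * e 0 * e 1 = (e 0)⁻¹ * e 1 * (e 0)⁻¹ ∧ e 1 * (e 0)⁻¹ * e 1 = e 0 * e 1 * e 0 := by
    intro hm
    have h := R.braid 0 (by omega)
    have h1 : (e 1)⁻¹ = e 1 := inv_eq_of_mul_eq_one_right (by rw [← pow_two]; exact R.sq 1 le_rfl (by omega))
    have key : e 1 * e 0 * e 1 = (e 0)⁻¹ * e 1 * (e 0)⁻¹ := by
      rw [pow_three, zero_add] at h
      calc e 1 * e 0 * e 1 = (e 0)⁻¹ * (e 0 * e 1 * ((e 0 * e 1) * (e 0 * e 1))) * ((e 1)⁻¹ * (e 0)⁻¹) := by group
        _ = (e 0)⁻¹ * e 1 * (e 0)⁻¹ := by rw [h, h1]; group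
    refine ⟨key, ?_⟩
    have := congrArg (·⁻¹) key
    simpa [h1, mul_assoc] using this
  refine ⟨T, ?_, ?_, ?_, ?_⟩
  · refine (Finset.card_insert_le _ _).trans ?_
    have := Finset.card_image_le (f := P) (s := Finset.range (m + 2))
    rw [Finset.card_range] at this
    omega
  · have := hP (m + 1) le_rfl
    simpa [P, desc] using this
  · have hm : ∀ k d, k + d ≤ m + 1 → desc e k d ∈ Subgroup.closure (e '' Set.Iio (m + 1)) := by
      intro k d
      induction d with
      | zero => intro _; exact one_mem _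
      | succ d ih => intro hd; exact mul_mem (Subgroup.subset_closure ⟨k + d, Set.mem_Iio.2 (by omega), rfl⟩) (ih (by omega))
    intro w hw
    rcases Finset.mem_insert.1 hw with rfl | hw
    · exact mul_mem (hm 0 _ (by omega)) (Subgroup.subset_closure ⟨0, Set.mem_Iio.2 (by omega), rfl⟩)
    · obtain ⟨k, hk, rfl⟩ := Finset.mem_image.1 hw
      exact hm k _ (by have := Finset.mem_range.1 hk; omega)
  intro w hw j hj
  rcases Finset.mem_insert.1 hw with rfl | hw
  · -- the last coset
    rcases Nat.lt_or_ge j 1 with hj1 | hj1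
    · obtain rfl : j = 0 := by omega
      refine ⟨1, H.one_mem, P 1, hP 1 (by omega), ?_⟩
      rw [Pstep 0 (by omega), one_mul, mul_assoc, mul_assoc, ← mul_assoc (e 0),
        show e 0 * e 0 * e 0 = 1 by rw [← pow_three' (e 0)]; exact R.cube (by omega), mul_one]
    · have h02 : e 0 * e 0 = (e 0)⁻¹ := (inv_eq_of_mul_eq_one_right (by
        rw [← pow_three (e 0)]; exact R.cube (by omega))).symm
      rw [Pstep 0 (by omega), mul_assoc (P 1), h02]
      rcases Nat.lt_or_ge j 2 with hj2 | hj2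
      · obtain rfl : j = 1 := by omega
        obtain ⟨h, hh, e2⟩ := pass 0 2 (by omega) (e 0) (Subgroup.mem_zpowers _)
        refine ⟨h, zH 0 (by omega) hh, P 0, hP 0 (by omega), ?_⟩
        rw [Pstep 0 (by omega), Pstep 1 hj, mul_assoc, mul_assoc, ← mul_assoc (e 1), (b0 hj).2, mul_assoc (e 0),
          ← mul_assoc (P 2), e2]
        group
      · refine ⟨e (j - 1), hH _ (by omega), P 0, hP 0 (by omega), ?_⟩
        rw [Pstep 0 (by omega), mul_assoc, (comm' j hj2 hj).2, ← mul_assoc, ← mul_assoc]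
        congr 1
        obtain ⟨i, rfl⟩ : ∃ i, j = i + 2 := ⟨j - 2, by omega⟩
        exact desc_shift R hj 1 le_rfl (by omega)
  · obtain ⟨k, hk, rfl⟩ := Finset.mem_image.1 hw
    rw [Finset.mem_range] at hk
    rcases Nat.lt_trichotomy (j + 1) k with h1 | h1 | h1
    · obtain ⟨h, hh, e2⟩ := pass j k h1 (e j) (Subgroup.mem_zpowers _)
      exact ⟨h, zH j (by omega) hh, P k, hP k (by omega), e2⟩
    · exact ⟨1, H.one_mem, P j, hP j (by omega), by rw [one_mul, Pstep j hj, h1]⟩
    rcases eq_or_lt_of_le (show k ≤ j by omega) with rfl | hkj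
    · rcases Nat.eq_zero_or_pos k with rfl | hk0
      · exact ⟨1, H.one_mem, _, hQ, (one_mul _).symm⟩
      · refine ⟨1, H.one_mem, P (k + 1), hP _ (by omega), ?_⟩
        rw [Pstep k hj, mul_assoc, ← pow_two, R.sq k hk0 (by omega), one_mul, mul_one]
    rcases Nat.eq_zero_or_pos k with rfl | hk0
    · rcases Nat.lt_or_ge j 2 with hj2 | hj2
      · obtain rfl : j = 1 := by omega
        obtain ⟨h, hh, e2⟩ := pass 0 2 (by omega) (e 0)⁻¹ (Subgroup.inv_mem _ (Subgroup.mem_zpowers _))
        refine ⟨h, zH 0 (by omega) hh, P 0 * e 0, hQ, ?_⟩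
        rw [Pstep 0 (by omega), Pstep 1 hj, mul_assoc, mul_assoc, ← mul_assoc (e 1) (e 0) (e 1), (b0 hj).1, mul_assoc (e 0)⁻¹,
          ← mul_assoc (P 2), e2, show (e 0)⁻¹ = e 0 * e 0 from inv_eq_of_mul_eq_one_right (by
            rw [← pow_three (e 0)]; exact R.cube (by omega))]
        group
      · refine ⟨e (j - 1), hH _ (by omega), P 0 * e 0, hQ, ?_⟩
        have h02 : e 0 * e 0 = (e 0)⁻¹ := (inv_eq_of_mul_eq_one_right (by
          rw [← pow_three (e 0)]; exact R.cube (by omega))).symm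
        rw [Pstep 0 (by omega), mul_assoc (P 1) (e 0) (e 0), h02, mul_assoc, (comm' j hj2 hj).1, ← mul_assoc, ← mul_assoc]
        congr 1
        obtain ⟨i, rfl⟩ : ∃ i, j = i + 2 := ⟨j - 2, by omega⟩
        exact desc_shift R hj 1 le_rfl (by omega)
    · obtain ⟨i, rfl⟩ : ∃ i, j = i + 2 := ⟨j - 2, by omega⟩
      exact ⟨e (i + 1), hH _ (by omega), P k, hP k (by omega), desc_shift R hj k hk0 (by omega)⟩

theorem closure_bound {e : ℕ → G} : ∀ m, Rels e m →
    ∃ S : Finset G, 2 * S.card ≤ (m + 2).factorial ∧ (Subgroup.closure (e '' Set.Iio m) : Set G) = S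
  | 0, _ => ⟨{1}, by simp, by simp⟩
  | m + 1, R => by
    classical
    obtain ⟨S, hS, hSeq⟩ := closure_bound m
      ⟨fun _ => R.cube (by omega), fun i a b => R.sq i a (by omega), fun i a => R.braid i (by omega),
        fun i j a b => R.comm i j a (by omega)⟩
    obtain ⟨T, hT, h1, hTsub, hTm⟩ := exists_cosets R
    refine ⟨S * T, ?_, Set.Subset.antisymm ?_ ?_⟩
    · calc 2 * (S * T).card ≤ 2 * (S.card * T.card) := Nat.mul_le_mul_left 2 Finset.card_mul_le
        _ = 2 * S.card * T.card := by ring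
        _ ≤ (m + 2).factorial * (m + 3) := Nat.mul_le_mul hS hT
        _ = (m + 1 + 2).factorial := by rw [show m + 1 + 2 = (m + 2) + 1 by ring, Nat.factorial_succ (m + 2), Nat.mul_comm]
    · have hstep : ∀ x ∈ S * T, ∀ j ≤ m, x * e j ∈ S * T := by
        intro x hx j hj
        obtain ⟨s, hs, w, hw, rfl⟩ := Finset.mem_mul.1 hx
        obtain ⟨h, hh, w', hw', e2⟩ := hTm w hw j hj
        rw [mul_assoc, e2, ← mul_assoc]
        refine Finset.mul_mem_mul ?_ hw'
        rw [← Finset.mem_coe, ← hSeq] at hs ⊢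
        exact mul_mem hs hh
      intro x hx
      induction hx using Subgroup.closure_induction_right with
      | one =>
        have : (1 : G) * 1 ∈ S * T := Finset.mul_mem_mul (by rw [← Finset.mem_coe, ← hSeq]; exact one_mem _) h1
        exact_mod_cast (one_mul (1 : G)) ▸ this
      | mul_right x z _ hz hx =>
        obtain ⟨j, hj, rfl⟩ := hz
        exact hstep x hx j (Nat.lt_succ_iff.1 hj)
      | mul_inv_cancel x z _ hz hx =>
        obtain ⟨j, hj, rfl⟩ := hz
        have hj' := Nat.lt_succ_iff.1 hj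
        rcases Nat.eq_zero_or_pos j with rfl | h0
        · rw [show (e 0)⁻¹ = e 0 * e 0 from inv_eq_of_mul_eq_one_right (by rw [← pow_three (e 0)]; exact R.cube (by omega)),
            ← mul_assoc]
          exact hstep _ (hstep x hx 0 hj') 0 hj'
        · rw [inv_eq_of_mul_eq_one_right (a := e j) (by rw [← pow_two]; exact R.sq j h0 (by omega))]
          exact hstep x hx j hj'
    · intro x hx
      obtain ⟨s, hs, w, hw, rfl⟩ := Finset.mem_mul.1 hx
      rw [← Finset.mem_coe, ← hSeq] at hs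
      refine mul_mem (Subgroup.closure_mono (Set.image_mono (Set.Iio_subset_Iio (by omega))) hs) ?_
      exact hTsub hw

end Cfsg.Agent.Carmichael
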